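import Cfsg.Agent.SuzukiType.Unique.Amalgam
import Cfsg.Agent.SuzukiType.Unique.SixPair
import Cfsg.Agent.SuzPres.Unitary
import Cfsg.Agent.InvolCalc.ZStarApps

/-!
The centralizer of the element of order three of the presented Suzuki group: at each step of the chain of three coset
actions an element of the centralizer sends the base coset to a fixed one.
-/

set_option autoImplicit false
set_option maxRecDepth 100000
set_option maxHeartbeats 1000000
set_option linter.style.haveILetI false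

namespace Cfsg.Lib.SuzPres.ThreeCent

open Subgroup Cfsg.Lib.CosetCert
open Cfsg.Lib.SuzukiType.Unique (yWd walkT table_step walk_step y_facts wval_im_eq_one)

/-- The element of order three. -/
def yv : Cfsg.Spor.Suz := wval im yWd

/-- The fixed cosets of a table. -/
def fixSet (C : Cert) : Finset ℕ := (Finset.range C.m).filter fun k => walkT C yWd k = k

theorem fix_counts : (fixSet L2.cert).card = 1 ∧ (fixSet L3.cert).card = 56 ∧ (fixSet L4.cert).card = 162 := by
  decide +kernel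

theorem cert_sizes : (L2.cert.ng = 5 ∧ L3.cert.ng = 6 ∧ L4.cert.ng = 7) ∧
    (L2.cert.m = 280 ∧ L3.cert.m = 416 ∧ L4.cert.m = 1782) ∧
    (yWd.all fun a => decide (a < 4)) = true := by decide +kernel

theorem y_small : ∀ a ∈ yWd, a < 4 := fun a ha =>
  decide_eq_true_eq.mp (List.all_eq_true.1 cert_sizes.2.2 a ha)

theorem yv_mem {k : ℕ} (hk : 4 ≤ k) : yv ∈ first k := wval_mem fun a ha => (y_small a ha).trans_le hk

theorem walk_lt {C : Cert} (hs : ∀ k < C.m, ∀ x < C.ng, C.ttgt k x < C.m) :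
    ∀ (w : List ℕ), (∀ l ∈ w, l < C.ng) → ∀ k < C.m, walkT C w k < C.m
  | [], _, _, hk => hk
  | l :: w, hw, k, hk =>
    walk_lt hs w (fun a ha => hw a (List.mem_cons_of_mem l ha)) _ (hs k hk l (hw l List.mem_cons_self))

/-- One step down the chain. -/
theorem fixed_bound {C : Cert} {R : List (List ℕ)} (hC : C.Valid R) (hR : ∀ r ∈ R, r ∈ words)
    (hlet : ∀ r ∈ R, ∀ l ∈ r, l < 7) (hng : C.ng ≤ 7) (h4 : 4 ≤ C.ng) {K : Subgroup Cfsg.Spor.Suz}
    (hsub : ∀ s ∈ C.subs, im s ∈ K) (hy : yv ∈ K) (hcard : Nat.card ↥(first C.ng) = C.m * Nat.card ↥K) :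
    Nat.card ↥(centralizer ({yv} : Set Cfsg.Spor.Suz) ⊓ first C.ng) ≤
      (fixSet C).card * Nat.card ↥(centralizer ({yv} : Set Cfsg.Spor.Suz) ⊓ K) := by
  classical
  have hinv : ∀ l, l < C.ng → im l * im l = 1 := fun l hl => good_im.inv (by omega)
  have hRinv : ∀ r ∈ R, ∀ l ∈ r, im l * im l = 1 := fun r hr l hl => good_im.inv (hlet r hr l hl)
  have hR' : ∀ r ∈ R, wval im r = 1 := fun r hr => im_words (hR r hr)
  obtain ⟨-, hs⟩ := table_step im hC hinv hR' hRinv hsub
  have hidx : ∀ g : ↥(first C.ng), ∃ k < C.m, (g : Cfsg.Spor.Suz) * (C.rep im (C.fn k))⁻¹ ∈ K := fun g => by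
    obtain ⟨j, hj, hm⟩ := exists_coset C im hC hinv hR' hRinv hsub (L := first C.ng) le_rfl g.2
    obtain ⟨k, hk, rfl⟩ := List.mem_map.1 hj
    exact ⟨k, List.mem_range.1 hk, hm⟩
  choose idx hidxlt hidxmem using hidx
  let f : ↥(first C.ng) → Fin C.m × ↥K := fun g => (⟨idx g, hidxlt g⟩, ⟨_, hidxmem g⟩)
  have hf : Function.Bijective f := by
    haveI : Finite ↥K := inferInstance
    refine (Nat.bijective_iff_injective_and_card f).mpr ⟨fun a b e => ?_, by rw [hcard, Nat.card_prod, Nat.card_fin]⟩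
    have e1 : idx a = idx b := congrArg (fun p => p.1.val) e
    have e2 : (a : Cfsg.Spor.Suz) * (C.rep im (C.fn (idx a)))⁻¹ = b * (C.rep im (C.fn (idx b)))⁻¹ :=
      congrArg (fun p => (p.2 : Cfsg.Spor.Suz)) e
    rw [e1] at e2
    exact Subtype.ext (mul_right_cancel e2)
  have distinct : ∀ {j k : ℕ}, j < C.m → k < C.m → C.rep im (C.fn k) * (C.rep im (C.fn j))⁻¹ ∈ K → j = k := by
    intro j k hj hk hm
    obtain ⟨g, hg⟩ := hf.2 (⟨k, hk⟩, 1)
    obtain ⟨g', hg'⟩ := hf.2 (⟨j, hj⟩, ⟨_, hm⟩)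
    have a1 : idx g = k := congrArg (fun p => p.1.val) hg
    have a2 : (g : Cfsg.Spor.Suz) * (C.rep im (C.fn (idx g)))⁻¹ = 1 := congrArg (fun p => (p.2 : Cfsg.Spor.Suz)) hg
    have b1 : idx g' = j := congrArg (fun p => p.1.val) hg'
    have b2 : (g' : Cfsg.Spor.Suz) * (C.rep im (C.fn (idx g')))⁻¹ = C.rep im (C.fn k) * (C.rep im (C.fn j))⁻¹ :=
      congrArg (fun p => (p.2 : Cfsg.Spor.Suz)) hg'
    rw [a1, mul_inv_eq_one] at a2
    rw [b1, mul_left_inj] at b2
    have : g' = g := Subtype.ext (b2.trans a2.symm)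
    rw [← b1, this, a1]
  have hw : ∀ l ∈ yWd, l < C.ng := fun l hl => (y_small l hl).trans_le h4
  set H := centralizer ({yv} : Set Cfsg.Spor.Suz) ⊓ first C.ng with hH
  have hfix : ∀ g : ↥H, idx ⟨g, g.2.2⟩ ∈ fixSet C := by
    intro g
    set k := idx ⟨g, g.2.2⟩ with hk
    have hkm : k < C.m := hidxlt _
    have hκ : (g : Cfsg.Spor.Suz) * (C.rep im (C.fn k))⁻¹ ∈ K := hidxmem _
    refine Finset.mem_filter.2 ⟨Finset.mem_range.2 hkm, ?_⟩
    have h1 := walk_step im hs yWd hw k hkm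
    have hj := walk_lt (fun k hk x hx => (hs k hk x hx).1) yWd hw k hkm
    refine distinct hj hkm ?_
    have hgy : (g : Cfsg.Spor.Suz) * yv = yv * g := mem_centralizer_singleton_iff.mp g.2.1
    have h2 : C.rep im (C.fn k) * yv * (C.rep im (C.fn k))⁻¹ ∈ K := by
      convert mul_mem (mul_mem (inv_mem hκ) hy) hκ using 1
      rw [mul_inv_rev, inv_inv, show C.rep im (C.fn k) * (g : Cfsg.Spor.Suz)⁻¹ * yv * ((g : Cfsg.Spor.Suz) * (C.rep im (C.fn k))⁻¹) =
        C.rep im (C.fn k) * ((g : Cfsg.Spor.Suz)⁻¹ * (yv * g)) * (C.rep im (C.fn k))⁻¹ by group, ← hgy,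
        inv_mul_cancel_left]
    convert mul_mem (inv_mem h2) h1 using 1
    rw [yv]
    group
  -- a base point in each fibre
  let base : ℕ → Cfsg.Spor.Suz := fun k =>
    if h : ∃ g : ↥H, idx ⟨g, g.2.2⟩ = k then (h.choose : Cfsg.Spor.Suz) else 1
  have hbase : ∀ g : ↥H, (g : Cfsg.Spor.Suz) * (base (idx ⟨g, g.2.2⟩))⁻¹ ∈ centralizer ({yv} : Set Cfsg.Spor.Suz) ⊓ K := by
    intro g
    have hex : ∃ g' : ↥H, idx ⟨g', g'.2.2⟩ = idx ⟨g, g.2.2⟩ := ⟨g, rfl⟩
    simp only [base, dif_pos hex]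
    set g' := hex.choose with hg'
    refine mem_inf.mpr ⟨mul_mem (mem_inf.mp g.2).1 (inv_mem (mem_inf.mp g'.2).1), ?_⟩
    have a := hidxmem ⟨g, g.2.2⟩
    have b := hidxmem ⟨g', g'.2.2⟩
    rw [show idx ⟨(g' : Cfsg.Spor.Suz), g'.2.2⟩ = idx ⟨(g : Cfsg.Spor.Suz), g.2.2⟩ from hex.choose_spec] at b
    show (g : Cfsg.Spor.Suz) * (g' : Cfsg.Spor.Suz)⁻¹ ∈ K
    convert K.mul_mem a (K.inv_mem b) using 1
    group
  let F : ↥H → ↥(fixSet C) × ↥(centralizer ({yv} : Set Cfsg.Spor.Suz) ⊓ K) := fun g => (⟨_, hfix g⟩, ⟨_, hbase g⟩)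
  have hF : Function.Injective F := fun a b e => by
    have e1 : idx ⟨a, a.2.2⟩ = idx ⟨b, b.2.2⟩ := congrArg (fun p => p.1.val) e
    have e2 : (a : Cfsg.Spor.Suz) * (base (idx ⟨a, a.2.2⟩))⁻¹ = b * (base (idx ⟨b, b.2.2⟩))⁻¹ :=
      congrArg (fun p => (p.2 : Cfsg.Spor.Suz)) e
    rw [e1] at e2
    exact Subtype.ext (mul_right_cancel e2)
  have h := Nat.card_le_card_of_injective F hF
  rwa [Nat.card_prod, Nat.card_eq_finsetCard] at h

theorem yv_facts : yv ^ 3 = 1 ∧ ∀ l ∈ [0, 1, 2, 5, 6], Commute yv (im l) :=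
  y_facts fun w hw _ => good_im w hw

theorem d_word_ok : ((List.range 1782).all fun x => Nat.beq (evalW tabs ([3] ++ yWd ++ [3] ++ yWd) x) x) = true ∧
    ((List.range 1782).any fun x => !(Nat.beq (evalW tabs yWd x) x)) = true := by decide +kernel

theorem d_inverts : im 3 * yv * im 3 = yv⁻¹ := by
  have h : wval im ([3] ++ yWd ++ [3] ++ yWd) = 1 := wval_im_eq_one (by decide +kernel) d_word_ok.1
  rw [wval_append, wval_append, wval_append, wval_cons, wval_nil, mul_one] at h
  exact eq_inv_of_mul_eq_one_left h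

theorem yv_ne : yv ≠ 1 := by
  intro h
  obtain ⟨x, hx, hne⟩ := List.any_eq_true.1 d_word_ok.2
  rw [Bool.not_eq_true'] at hne
  have e := evalW_apply im psi tabs psi_im yWd (fun a ha => (y_small a ha).trans (show 4 < 7 by norm_num))
    ⟨x, List.mem_range.1 hx⟩
  have h' : wval im yWd = 1 := h
  rw [h', map_one, inv_one] at e
  rw [← e] at hne
  simp at hne

theorem orderOf_yv : orderOf yv = 3 := by
  haveI : Fact (Nat.Prime 3) := ⟨by norm_num⟩
  exact orderOf_eq_prime yv_facts.1 yv_ne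

theorem yv_sq : yv⁻¹ ≠ yv := fun h => yv_ne (by
  have h3 := yv_facts.1
  rw [pow_succ, pow_two] at h3
  rw [inv_eq_iff_mul_eq_one] at h
  rwa [h, one_mul] at h3)

/-- The centralizer. -/
def cy : Subgroup Cfsg.Spor.Suz := centralizer ({yv} : Set Cfsg.Spor.Suz)

theorem mem_cy {g : Cfsg.Spor.Suz} : g ∈ cy ↔ Commute g yv := mem_centralizer_singleton_iff

theorem four_bound : Nat.card ↥(cy ⊓ first 4) ≤ 1080 := by
  haveI := bound4.1
  have hlt : (cy ⊓ first 4).subgroupOf (first 4) ≠ ⊤ := by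
    rw [Ne, subgroupOf_eq_top]
    intro h
    have hd : Commute (im 3) yv := mem_cy.mp (h (im_mem (by norm_num : 3 < 4))).1
    refine yv_sq ?_
    rw [← d_inverts, hd.eq, mul_assoc, good_im.inv (by norm_num), mul_one]
  have h1 := ((cy ⊓ first 4).subgroupOf (first 4)).card_mul_index
  rw [Nat.card_congr (subgroupOfEquivOfLe (inf_le_right : cy ⊓ first 4 ≤ first 4)).toEquiv] at h1
  have h2 : 2 ≤ ((cy ⊓ first 4).subgroupOf (first 4)).index := by
    have h0 : ((cy ⊓ first 4).subgroupOf (first 4)).index ≠ 0 := index_ne_zero_of_finite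
    have h1' : ((cy ⊓ first 4).subgroupOf (first 4)).index ≠ 1 := fun e => hlt (index_eq_one.mp e)
    omega
  have := bound4.2
  nlinarith

theorem card_first_four : Nat.card ↥(first 4) = 2160 := by
  haveI := bound4.1
  refine le_antisymm bound4.2 ?_
  obtain ⟨-, h⟩ := cert_bound L2.valid rels_mem2 (fun r hr => letters_high r (by simp [hr]))
    (by rw [cert_sizes.1.1]; norm_num) (K := first 4) (L := first 5) (fun s hs => im_mem (by
      simp only [L2.cert, List.mem_cons, List.mem_nil_iff, or_false] at hs; omega)) (by rw [cert_sizes.1.1])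
  rw [L2.fins_length, card_first_five] at h
  omega

theorem cy_bound : Nat.card ↥cy ≤ 9797760 := by
  obtain ⟨⟨n2, n3, n4⟩, ⟨m2, m3, m4⟩, -⟩ := cert_sizes
  obtain ⟨f2, f3, f4⟩ := fix_counts
  have b2 := fixed_bound L2.valid rels_mem2 (fun r hr => letters_high r (by simp [hr])) (by omega) (by omega)
    (K := first 4) (fun s hs => im_mem (by
      simp only [L2.cert, List.mem_cons, List.mem_nil_iff, or_false] at hs; omega)) (yv_mem le_rfl)
    (by rw [n2, m2, card_first_five, card_first_four])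
  rw [n2, f2, one_mul] at b2
  have b3 := fixed_bound L3.valid rels_mem3 (fun r hr => letters_high r (by simp [hr])) (by omega) (by omega)
    (K := first 5) (fun s hs => im_mem (by
      simp only [L3.cert, List.mem_cons, List.mem_nil_iff, or_false] at hs; omega)) (yv_mem (by norm_num))
    (by rw [n3, m3, card_first_six, card_first_five])
  rw [n3, f3] at b3
  have b4 := fixed_bound L4.valid rels_mem4 (fun r hr => letters_high r (by simp [hr])) (by omega) (by omega)
    (K := first 6) (fun s hs => im_mem (by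
      simp only [L4.cert, List.mem_cons, List.mem_nil_iff, or_false] at hs; omega)) (yv_mem (by norm_num))
    (by rw [n4, m4, first_top, Subgroup.card_top, card_suz, card_first_six])
  rw [n4, f4, first_top, inf_top_eq] at b4
  have h4 := four_bound
  unfold cy at h4 ⊢
  omega

theorem sixU_maps {g : Cfsg.Spor.Suz} (hg : g ∈ sixU) : g * yv * g⁻¹ = yv ∨ g * yv * g⁻¹ = yv⁻¹ := by
  induction hg using Subgroup.closure_induction with
  | mem v hv =>
    obtain ⟨l, hl, rfl⟩ := hv
    have hl' : l < 6 := hl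
    have hc : ∀ n ∈ [0, 1, 2, 5, 6], im n * yv * (im n)⁻¹ = yv := fun n hn => by
      rw [← (yv_facts.2 n hn).eq, mul_inv_cancel_right]
    interval_cases l
    · exact Or.inl (hc 0 (by simp))
    · exact Or.inl (hc 1 (by simp))
    · exact Or.inl (hc 2 (by simp))
    · right
      show im 3 * yv * (im 3)⁻¹ = yv⁻¹
      rw [inv_eq_of_mul_eq_one_right (good_im.inv (show 3 < 7 by norm_num)), d_inverts]
    · exact Or.inl (hc 5 (by simp))
    · exact Or.inl (hc 6 (by simp))
  | one => exact Or.inl (by group)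
  | mul a b _ _ ha hb =>
    rw [show a * b * yv * (a * b)⁻¹ = a * (b * yv * b⁻¹) * a⁻¹ by group]
    rcases hb with e | e <;> rw [e]
    · exact ha
    · rw [show a * yv⁻¹ * a⁻¹ = (a * yv * a⁻¹)⁻¹ by group]
      rcases ha with e' | e' <;> rw [e']
      · exact Or.inr rfl
      · exact Or.inl (inv_inv _)
  | inv a _ ha =>
    rcases ha with e | e
    · left
      conv_lhs => rw [← e]
      group
    · right
      conv_lhs => rw [← inv_inv yv, ← e]
      group

theorem im_three_sixU : im 3 ∈ sixU := memU (by decide)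

/-- Halving a group of elements fixing or inverting the element. -/
theorem half {H : Subgroup Cfsg.Spor.Suz} (hd : im 3 ∈ H)
    (hH : ∀ g ∈ H, g * yv * g⁻¹ = yv ∨ g * yv * g⁻¹ = yv⁻¹) : Nat.card ↥H ≤ 2 * Nat.card ↥(cy ⊓ H) := by
  classical
  have key : ∀ g : ↥H, ¬ Commute (g : Cfsg.Spor.Suz) yv → im 3 * (g : Cfsg.Spor.Suz) ∈ cy ⊓ H := by
    intro g hn
    refine ⟨mem_cy.mpr (mul_inv_eq_iff_eq_mul.mp ?_), mul_mem hd g.2⟩
    rcases hH _ g.2 with e | e
    · exact absurd (mul_inv_eq_iff_eq_mul.mp e) hn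
    · have i3 := inv_eq_of_mul_eq_one_right (good_im.inv (show 3 < 7 by norm_num))
      calc im 3 * (g : Cfsg.Spor.Suz) * yv * (im 3 * (g : Cfsg.Spor.Suz))⁻¹
            = im 3 * ((g : Cfsg.Spor.Suz) * yv * (g : Cfsg.Spor.Suz)⁻¹) * (im 3)⁻¹ := by group
        _ = (im 3 * yv * im 3)⁻¹ := by rw [e, mul_inv_rev, mul_inv_rev, i3, mul_assoc]
        _ = yv := by rw [d_inverts, inv_inv]
  let f : ↥H → Bool × ↥(cy ⊓ H) := fun g =>
    if h : Commute (g : Cfsg.Spor.Suz) yv then (true, ⟨g, mem_cy.mpr h, g.2⟩) else (false, ⟨_, key g h⟩)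
  have hf : Function.Injective f := by
    intro a b e
    simp only [f] at e
    split_ifs at e with ha hb hb
    · exact Subtype.ext (congrArg (fun p => (p.2 : Cfsg.Spor.Suz)) e)
    · exact absurd (congrArg Prod.fst e) (by simp)
    · exact absurd (congrArg Prod.fst e) (by simp)
    · exact Subtype.ext (mul_left_cancel (congrArg (fun p => (p.2 : Cfsg.Spor.Suz)) e))
  have h := Nat.card_le_card_of_injective f hf
  rwa [Nat.card_prod, show Nat.card Bool = 2 by simp] at h

theorem card_cy : Nat.card ↥cy = 9797760 ∧ cy ≤ sixU := by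
  haveI : Finite ↥sixU := boundU.1
  have h := half im_three_sixU fun g hg => sixU_maps hg
  rw [card_sixU] at h
  have hle := Nat.card_le_card_of_injective _
    (Subgroup.inclusion_injective (inf_le_left : cy ⊓ sixU ≤ cy))
  have hb := cy_bound
  refine ⟨by omega, ?_⟩
  have := eq_of_le_of_card_ge (inf_le_left : cy ⊓ sixU ≤ cy) (by omega)
  exact inf_eq_left.mp this

theorem normalizer_maps {g : Cfsg.Spor.Suz} (hg : g ∈ normalizer (zpowers yv : Set Cfsg.Spor.Suz)) :
    g * yv * g⁻¹ = yv ∨ g * yv * g⁻¹ = yv⁻¹ := by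
  classical
  have hm := (mem_normalizer_iff.mp hg yv).mp (mem_zpowers yv)
  obtain ⟨i, hi, e⟩ := (IsOfFinOrder.mem_zpowers_iff_mem_range_orderOf (isOfFinOrder_of_finite yv)).mp hm |> Finset.mem_image.mp
  rw [orderOf_yv] at hi
  rw [Finset.mem_range] at hi
  interval_cases i
  · exfalso
    rw [pow_zero] at e
    exact yv_ne (conj_eq_one_iff.mp e.symm)
  · left; rw [← e, pow_one]
  · right
    rw [← e]
    refine eq_inv_of_mul_eq_one_left ?_
    rw [← pow_succ, yv_facts.1]

/-- The normalizer is the subgroup on six letters, twice the centralizer. -/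
theorem card_normalizer : Nat.card ↥(normalizer (zpowers yv : Set Cfsg.Spor.Suz)) = 19595520 := by
  haveI : Finite ↥sixU := boundU.1
  have hN : sixU ≤ normalizer (zpowers yv : Set Cfsg.Spor.Suz) := by
    intro g hg
    refine Cfsg.Lib.ZStarApps.mem_normalizer_of_maps fun a ha => ?_
    obtain ⟨i, rfl⟩ := mem_zpowers_iff.mp ha
    rw [← conj_zpow]
    rcases sixU_maps hg with e | e <;> rw [e]
    · exact zpow_mem (mem_zpowers yv) i
    · exact zpow_mem (inv_mem (mem_zpowers yv)) i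
  have h1 := Nat.card_le_card_of_injective _ (Subgroup.inclusion_injective hN)
  have h2 := half (hN im_three_sixU) fun g hg => normalizer_maps hg
  have h3 := Nat.card_le_card_of_injective _
    (Subgroup.inclusion_injective (inf_le_left : cy ⊓ normalizer (zpowers yv : Set Cfsg.Spor.Suz) ≤ cy))
  rw [card_sixU] at h1
  rw [card_cy.1] at h3
  omega

end Cfsg.Lib.SuzPres.ThreeCent
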